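import Cfsg.Agent.H0.TC
set_option maxRecDepth 100000
namespace H0.TCL2110
open H0
noncomputable def r0 : TC.WTr := (.node (.node (.node (.node (.node (.node (.leaf [0] 0 0 false) (.leaf [3, 4, 6] 11 0 false)) (.leaf [6, 1, 7, 3, 4, 3] 24 0 false)) (.node (.node (.leaf [1, 1] 17 0 false) (.leaf [1, 3, 5, 3, 7, 2] 24 5 true)) (.leaf [5] 4 0 false))) (.node (.node (.node (.leaf [4, 0, 1] 19 3 true) (.leaf [6] 6 0 false)) (.leaf [7, 5, 6, 7, 6] 16 3 true)) (.node (.node (.leaf [1] 1 1 false) (.leaf [1, 7, 2] 23 1 false)) (.leaf [3, 4, 3, 4, 3, 4, 3, 4, 3] 13 1 false)))) (.node (.node (.node (.node (.leaf [1, 0, 4] 19 1 true) (.leaf [3, 7, 2, 6, 1, 3] 24 1 true)) (.leaf [3] 3 0 false)) (.node (.node (.leaf [3, 5, 3, 7, 2, 6] 24 6 true) (.leaf [7] 7 0 false)) (.leaf [4, 4] 10 0 false))) (.node (.node (.node (.leaf [2] 1 0 false) (.leaf [5, 3, 4] 11 3 false)) (.leaf [5, 3,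 7, 2, 6, 1] 24 0 true)) (.node (.node (.leaf [2, 2] 17 0 true) (.leaf [5, 6, 7, 6, 3] 16 4 true)) (.leaf [4] 4 1 false))))) (.node (.node (.node (.node (.node (.leaf [2, 3, 1] 18 1 false) (.leaf [5, 5] 10 0 true)) (.leaf [1] 1 1 false)) (.node (.node (.leaf [0, 2, 3] 18 0 false) (.leaf [6] 6 0 false)) (.leaf [0, 1, 0] 19 0 true))) (.node (.node (.node (.leaf [1, 0, 1, 0, 1, 0, 1, 0, 1, 0, 1, 0, 1, 0, 1, 0, 1, 0, 1, 0, 1] 20 0 false) (.leaf [1, 7, 3, 4, 3, 2] 24 1 false)) (.leaf [4, 6, 5] 11 1 false)) (.node (.node (.leaf [0, 5, 0] 19 1 false) (.leaf [2, 6, 1, 3, 5, 3] 24 3 true)) (.leaf [5] 4 0 false)))) (.node (.node (.node (.node (.leaf [5, 0, 2] 19 2 false) (.leaf [4] 4 1 false)) (.leaf [1, 0, 2] 18 3 false)) (.node (.node (.leaf [2] 1 0 false) (.leaf [2, 7, 1] 23 3 false)) (.leaf [6, 5, 3] 11 2 false))) (.node (.node (.node (.leaf [7, 2, 7] 23 2 false) (.leaf [7,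 6, 4, 7, 3] 16 3 false)) (.leaf [5, 7, 4, 3, 5, 3, 4] 12 5 false)) (.node (.node (.leaf [3, 1, 0] 18 2 false) (.leaf [4, 3, 5, 3, 4, 3, 5] 12 7 false)) (.leaf [6, 7, 6, 3, 7] 16 5 true))))))
noncomputable def tS : Tr := (.leaf (nat_lit 0xff687677491a3e558effa18d8b835e1a733fff6783480e2962804bff980d5782758c4c96ff0c513a556c322773ff780c5d684f826769ff76480c2e2b5d2a24ff19191e482d180030ff181d3b225d002418ff1c1b2e1a3a172200ff00000000000e0d0c))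
noncomputable def tJ : Tr := (.leaf (nat_lit 0x304343c4322004004c24403038304060590450057070100010600720200350027203021021001270201001070100000001070066666000))
noncomputable def tQ : Tr := (.leaf (nat_lit 0x0))
noncomputable def tR : TC.WTr := r0
def hl : List ℕ := [3, 4, 5, 5, 4, 6, 7]
def B : List (List ℕ) := [[0, 0], [1, 2], [2, 1], [3, 3], [4, 5], [5, 4], [6, 6], [7, 7], [6, 7, 6, 7, 6, 7], [6, 7, 6, 7, 6, 7, 6, 7, 6, 7, 6, 7], [4, 4, 4], [5, 3, 4, 6], [4, 3, 5, 3, 4, 3, 5, 7], [3, 4, 3, 4, 3, 4, 3, 4, 3, 4], [3, 4, 3, 5, 3, 4, 3, 5, 3, 4, 3, 5, 3, 4, 3, 5, 3, 4, 3, 5], [3, 5, 3, 5, 3, 5, 3, 5, 3, 5], [4, 7, 3, 6, 7, 6], [1, 1, 1], [1, 0, 2, 3], [0, 2, 0, 5], [0, 1, 0, 1, 0, 1, 0, 1, 0, 1, 0, 1, 0, 1, 0, 1, 0, 1, 0, 1, 0, 1], [0, 1, 0, 2, 0, 1, 0, 2, 0, 1, 0, 2, 0, 1, 0, 2, 0, 1, 0, 2], [0, 2, 0, 2, 0, 2, 0, 2, 0, 2, 0, 2, 0, 2, 0, 2, 0, 2, 0, 2, 0, 2], [2, 7, 1,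 7], [2, 6, 1, 7, 3, 4, 3]]
def subs : List (List ℕ) := [[3], [4], [5], [6], [7]]
def ex : List (List ℕ) := []
def inv (x : ℕ) : ℕ := [0, 2, 1, 3, 5, 4, 6, 7].getD x 0
noncomputable def rS : ℕ → ℕ := rowOf tS (nat_lit 8) (nat_lit 255) (nat_lit 72) (nat_lit 4722366482869645213695)
noncomputable def rJ : ℕ → ℕ := rowOf tJ (nat_lit 8) (nat_lit 255) (nat_lit 40) (nat_lit 1099511627775)
noncomputable def C : TC.Cfg where
  S := look rS (nat_lit 8) (nat_lit 255)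
  J := look rJ (nat_lit 4) (nat_lit 15)
  Q := lookQ tQ (nat_lit 8) (nat_lit 1) (nat_lit 1)
  R := tR.get
  hl := fun x => hl.contains x
  n := (nat_lit 11)
  M := (nat_lit 11)
  top := (nat_lit 165)
  nl := (nat_lit 8)
  need := (nat_lit 8)
  nr := (nat_lit 6)
theorem k0 : TC.chkRange C 0 1 = true := by decide +kernel
theorem rows0 : ∀ c < (0 + 1) * 64, c < C.M → TC.chkRow C c = true :=
  TC.rows_step (TC.rows_zero C) k0
theorem main {G : Type*} [Group G] (g : ℕ → G) (hB : ∀ r ∈ B, ev g r = 1) (H : Subgroup G)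
    (hH : ∀ w ∈ subs, ev g w ∈ H) :
    H.relIndex (Subgroup.closure (g '' {x | x < 8})) ≠ 0 ∧
      H.relIndex (Subgroup.closure (g '' {x | x < 8})) ≤ 11 :=
  TC.index_le C B subs ex inv hl tR.hint rfl (by decide +kernel) (by decide +kernel)
    (TC.rows_done rows0 (by decide +kernel)) g hB H hH
end H0.TCL2110
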